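import Groth.Agent.DerivedCoh.KInj.Resolution
import Mathlib.Algebra.Homology.DerivedCategory.KInjective

/-!
Products and coproducts in the derived category of a Grothendieck abelian category.
-/

universe w v u

namespace Groth.DerivedCoh.KInjRes

open CategoryTheory CategoryTheory.Limits HomologicalComplex CochainComplex

variable {A : Type u} [Category.{v} A] [Abelian A]

local notation "quot" => HomotopyCategory.quotient A (ComplexShape.up ℤ)

/-- homotopies into a product are componentwise -/
lemma homotopic_pi {T : Type v} (I : T → CochainComplex A ℤ) [HasProduct I]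
    {K : CochainComplex A ℤ} (f g : K ⟶ ∏ᶜ I)
    (h : ∀ t, Nonempty (Homotopy (f ≫ Pi.π I t) (g ≫ Pi.π I t))) : Nonempty (Homotopy f g) := by
  let H := fun t => (h t).some
  have hext : ∀ {a : A} (j : ℤ) (x y : a ⟶ (∏ᶜ I).X j),
      (∀ t, x ≫ (Pi.π I t).f j = y ≫ (Pi.π I t).f j) → x = y := fun {a} j x y hxy => by
    have h0 : fromDisk' x = fromDisk' y := Pi.hom_ext _ _ fun t => by
      refine from_double_hom_ext ?_ ?_
      · simp [fromDisk', hxy]
      · simp only [fromDisk', comp_f, mkHomFromDouble_f₁, Category.assoc, ← (Pi.π I t).comm]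
        rw [← Category.assoc x, hxy t, Category.assoc]
    have := congrArg (fun z => z.f j) h0
    simpa [fromDisk'] using this
  let lift : ∀ i j, K.X i ⟶ (∏ᶜ I).X j := fun i j =>
    (doubleXIso₀ (𝟙 (K.X i)) (relUp' j)).inv ≫
      (Pi.lift fun t => fromDisk' ((H t).hom i j)).f j
  have hfac : ∀ i j t, lift i j ≫ (Pi.π I t).f j = (H t).hom i j := fun i j t => by
    simp [lift, fromDisk', ← comp_f]
  refine ⟨{ hom := lift, zero := fun i j hij => ?_, comm := fun i => ?_ }⟩
  · refine hext j _ _ fun t => ?_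
    rw [zero_comp]
    exact (hfac i j t).trans ((H t).zero i j hij)
  · refine hext i _ _ fun t => ?_
    have hr : (ComplexShape.up ℤ).Rel i (i + 1) := by simp
    have hl : (ComplexShape.up ℤ).Rel (i - 1) i := by simp
    have := (H t).comm i
    rw [dNext_eq _ hr, prevD_eq _ hl] at this ⊢
    simp only [comp_f] at this
    simp only [Preadditive.add_comp, Category.assoc]
    refine this.trans (congrArg (· + _) (congrArg₂ (· + ·) ?_ ?_))
    · rw [← hfac (i + 1) i t]
    · rw [← (Pi.π I t).comm (i - 1) i, ← Category.assoc, hfac i (i - 1) t]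

/-- homotopies out of a coproduct are componentwise -/
lemma homotopic_sigma {T : Type v} [HasCoproductsOfShape T A] (I : T → CochainComplex A ℤ)
    {K : CochainComplex A ℤ} (f g : ∐ I ⟶ K)
    (h : ∀ t, Nonempty (Homotopy (Sigma.ι I t ≫ f) (Sigma.ι I t ≫ g))) :
    Nonempty (Homotopy f g) := by
  let H := fun t => (h t).some
  let hC := fun i => isColimitCofanMkObjOfIsColimit (eval A (ComplexShape.up ℤ) i) _ _
    (coproductIsCoproduct I)
  let desc := fun i j => (hC i).desc (Cofan.mk (K.X j) fun t => (H t).hom i j)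
  have hfac : ∀ i j t, (Sigma.ι I t).f i ≫ desc i j = (H t).hom i j := fun i j t =>
    (hC i).fac _ ⟨t⟩
  refine ⟨{ hom := desc, zero := fun i j hij => ?_, comm := fun i => ?_ }⟩
  · refine Cofan.IsColimit.hom_ext (hC i) _ _ fun t => ?_
    change (Sigma.ι I t).f i ≫ desc i j = (Sigma.ι I t).f i ≫ 0
    rw [comp_zero]
    exact (hfac i j t).trans ((H t).zero i j hij)
  · refine Cofan.IsColimit.hom_ext (hC i) _ _ fun t => ?_
    have hr : (ComplexShape.up ℤ).Rel i (i + 1) := by simp
    have hl : (ComplexShape.up ℤ).Rel (i - 1) i := by simp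
    have := (H t).comm i
    rw [dNext_eq _ hr, prevD_eq _ hl] at this ⊢
    simp only [comp_f] at this
    change (Sigma.ι I t).f i ≫ f.f i = (Sigma.ι I t).f i ≫ _
    simp only [Preadditive.comp_add]
    refine this.trans (congrArg (· + _) (congrArg₂ (· + ·) ?_ ?_))
    · rw [← Category.assoc, (Sigma.ι I t).comm i (i + 1), Category.assoc, hfac (i + 1) i t]
    · rw [← Category.assoc, hfac i (i - 1) t]

variable [HasDerivedCategory.{w} A]

lemma Q_map_surjective (K L : CochainComplex A ℤ) [L.IsKInjective] :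
    Function.Surjective (DerivedCategory.Q.map : (K ⟶ L) → _) := fun φ => by
  obtain ⟨ψ, hψ⟩ := (IsKInjective.Qh_map_bijective _ L).surjective
    ((DerivedCategory.quotientCompQhIso A).hom.app K ≫ φ ≫
      (DerivedCategory.quotientCompQhIso A).inv.app L)
  obtain ⟨u, rfl⟩ := (quot).map_surjective ψ
  refine ⟨u, ?_⟩
  rw [← cancel_epi ((DerivedCategory.quotientCompQhIso A).hom.app K),
    ← cancel_mono ((DerivedCategory.quotientCompQhIso A).inv.app L), Category.assoc,
    Category.assoc, ← hψ, ← (DerivedCategory.quotientCompQhIso A).hom.naturality_assoc]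
  simp

lemma Q_map_eq_iff (K L : CochainComplex A ℤ) [L.IsKInjective] (f g : K ⟶ L) :
    DerivedCategory.Q.map f = DerivedCategory.Q.map g ↔ Nonempty (Homotopy f g) := by
  constructor
  · intro h
    have h' : DerivedCategory.Qh.map ((quot).map f) = DerivedCategory.Qh.map ((quot).map g) := by
      rw [← cancel_mono ((DerivedCategory.quotientCompQhIso A).hom.app L)]
      exact ((DerivedCategory.quotientCompQhIso A).hom.naturality f).trans
        ((congrArg (_ ≫ ·) h).trans ((DerivedCategory.quotientCompQhIso A).hom.naturality g).symm)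
    exact ⟨HomotopyCategory.homotopyOfEq _ _ ((IsKInjective.Qh_map_bijective _ L).injective h')⟩
  · rintro ⟨h⟩
    rw [← cancel_epi ((DerivedCategory.quotientCompQhIso A).hom.app K)]
    exact ((DerivedCategory.quotientCompQhIso A).hom.naturality f).symm.trans
      ((congrArg (· ≫ _) (congrArg DerivedCategory.Qh.map (HomotopyCategory.eq_of_homotopy _ _ h))).trans
        ((DerivedCategory.quotientCompQhIso A).hom.naturality g))

variable [IsGrothendieckAbelian.{v} A]

lemma exists_kInjective_iso (X : DerivedCategory A) :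
    ∃ (I : CochainComplex A ℤ), I.IsKInjective ∧ Nonempty (DerivedCategory.Q.obj I ≅ X) := by
  let K := (DerivedCategory.Q (C := A)).objPreimage X
  let e := (DerivedCategory.Q (C := A)).objObjPreimageIso X
  obtain ⟨I, i, _, _, hI, -⟩ := exists_resolution K
  exact ⟨I, hI, ⟨(asIso (DerivedCategory.Q.map i)).symm ≪≫ e⟩⟩

lemma hasProducts : HasProducts.{v} (DerivedCategory A) := fun T => by
  refine { has_limit := fun F => ?_ }
  suffices ∀ X : T → DerivedCategory A, HasProduct X from
    have := this fun t => F.obj ⟨t⟩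
    hasLimit_of_iso (Discrete.natIsoFunctor (F := F)).symm
  intro X
  choose I hI hI' using fun t => exists_kInjective_iso (X t)
  let e := fun t => (hI' t).some
  have hP : (∏ᶜ I).IsKInjective := ⟨fun {K} f hK => homotopic_pi I f 0 fun t =>
    ⟨((hI t).nonempty_homotopy_zero (f ≫ Pi.π I t) hK).some.trans (Homotopy.ofEq zero_comp.symm)⟩⟩
  suffices HasProduct fun t => DerivedCategory.Q.obj (I t) from
    hasLimit_of_iso (F := Discrete.functor fun t => DerivedCategory.Q.obj (I t))
      (Discrete.natIso fun t => e t.as)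
  refine ⟨⟨⟨Fan.mk (DerivedCategory.Q.obj (∏ᶜ I)) fun t => DerivedCategory.Q.map (Pi.π I t), ?_⟩⟩⟩
  refine Classical.choice ?_
  have hex : ∀ s : Fan (fun t => DerivedCategory.Q.obj (I t)), ∃! l : s.pt ⟶ DerivedCategory.Q.obj (∏ᶜ I),
      ∀ t, l ≫ DerivedCategory.Q.map (Pi.π I t) = s.proj t := fun s => by
    let K := (DerivedCategory.Q (C := A)).objPreimage s.pt
    let ε : DerivedCategory.Q.obj K ≅ s.pt := (DerivedCategory.Q (C := A)).objObjPreimageIso s.pt
    choose u hu using fun t => Q_map_surjective K (I t) (ε.hom ≫ s.proj t)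
    refine ⟨ε.inv ≫ DerivedCategory.Q.map (Pi.lift u), fun t => ?_, fun l hl => ?_⟩
    · rw [Category.assoc, ← Functor.map_comp, Pi.lift_π, hu, Iso.inv_hom_id_assoc]
    · obtain ⟨a, ha⟩ := Q_map_surjective K _ (ε.hom ≫ l)
      rw [← cancel_epi ε.hom, Iso.hom_inv_id_assoc, ← ha, Q_map_eq_iff]
      refine homotopic_pi I _ _ fun t => ?_
      rw [← Q_map_eq_iff, Functor.map_comp, ha, Category.assoc, hl, Pi.lift_π, hu]
  exact ⟨Fan.IsLimit.mk _ (fun s => (hex s).choose)
    (fun s t => (hex s).choose_spec.1 t)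
    (fun s m hm => (hex s).choose_spec.2 m hm)⟩

lemma hasCoproducts : HasCoproducts.{v} (DerivedCategory A) := fun T => by
  refine { has_colimit := fun F => ?_ }
  suffices ∀ X : T → DerivedCategory A, HasCoproduct X from
    have := this fun t => F.obj ⟨t⟩
    hasColimit_of_iso (Discrete.natIsoFunctor (F := F))
  intro X
  let K := fun t => (DerivedCategory.Q (C := A)).objPreimage (X t)
  let e : ∀ t, DerivedCategory.Q.obj (K t) ≅ X t :=
    fun t => (DerivedCategory.Q (C := A)).objObjPreimageIso (X t)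
  suffices HasCoproduct fun t => DerivedCategory.Q.obj (K t) from
    hasColimit_of_iso (F := Discrete.functor fun t => DerivedCategory.Q.obj (K t))
      (Discrete.natIso fun t => (e t.as).symm)
  refine ⟨⟨⟨Cofan.mk (DerivedCategory.Q.obj (∐ K)) fun t => DerivedCategory.Q.map (Sigma.ι K t), ?_⟩⟩⟩
  refine Classical.choice ?_
  have hex : ∀ s : Cofan (fun t => DerivedCategory.Q.obj (K t)), ∃! l : DerivedCategory.Q.obj (∐ K) ⟶ s.pt,
      ∀ t, DerivedCategory.Q.map (Sigma.ι K t) ≫ l = s.inj t := fun s => by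
    obtain ⟨J, hJ, ⟨ε⟩⟩ := exists_kInjective_iso s.pt
    choose u hu using fun t => Q_map_surjective (K t) J (s.inj t ≫ ε.inv)
    refine ⟨DerivedCategory.Q.map (Sigma.desc u) ≫ ε.hom, fun t => ?_, fun l hl => ?_⟩
    · rw [← Functor.map_comp_assoc, Sigma.ι_desc, hu, Category.assoc, Iso.inv_hom_id, Category.comp_id]
    · obtain ⟨a, ha⟩ := Q_map_surjective (∐ K) J (l ≫ ε.inv)
      rw [← cancel_mono ε.inv, Category.assoc, Iso.hom_inv_id, Category.comp_id, ← ha, Q_map_eq_iff]
      refine homotopic_sigma K _ _ fun t => ?_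
      rw [← Q_map_eq_iff, Functor.map_comp, ha, ← Category.assoc, hl, Sigma.ι_desc, hu]
  exact ⟨Cofan.IsColimit.mk _ (fun s => (hex s).choose)
    (fun s t => (hex s).choose_spec.1 t)
    (fun s m hm => (hex s).choose_spec.2 m hm)⟩

end Groth.DerivedCoh.KInjRes
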