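import Groth.Agent.DerivedCoh.KInj.AcyclicMono
import Mathlib.Algebra.Homology.Double
import Mathlib.Algebra.Homology.HomotopyCategory.KInjective
import Mathlib.Algebra.Homology.HomotopyCategory.Pretriangulated

/-!
Complexes with the extension property against acyclic monomorphisms are exactly the K-injective
complexes with injective terms.
-/

universe v u

set_option backward.defeqAttrib.useBackward true
set_option backward.isDefEq.respectTransparency false

namespace Groth.DerivedCoh.KInjRes

open CategoryTheory CategoryTheory.Limits HomologicalComplex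

variable {A : Type u} [Category.{v} A] [Abelian A]

local notation "W" => acyclicMono A (ComplexShape.up ℤ)

lemma relUp' (m : ℤ) : (ComplexShape.up ℤ).Rel m (m + 1) := by simp

/-- a disk -/
noncomputable abbrev disk' (a : A) (m : ℤ) : CochainComplex A ℤ :=
  HomologicalComplex.double (𝟙 a) (relUp' m)

/-- maps out of a disk -/
noncomputable def fromDisk' {Y : CochainComplex A ℤ} {a : A} {m : ℤ} (g : a ⟶ Y.X m) :
    disk' a m ⟶ Y :=
  mkHomFromDouble (relUp' m) (by simp) g (g ≫ Y.d m (m + 1)) (by simp) (by simp)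

/-- the lifting property of the target of a trivial cofibration -/
def Ext (L : CochainComplex A ℤ) : Prop :=
  ∀ ⦃K M : CochainComplex A ℤ⦄ (i : K ⟶ M), W i → ∀ f : K ⟶ L, ∃ g, i ≫ g = f

lemma acyclic_disk (a : A) (m : ℤ) : (disk' a m).Acyclic := by
  intro i
  by_cases h₀ : i = m
  · subst h₀
    rw [exactAt_iff' _ (i - 1) i (i + 1) (by simp) (by simp)]
    refine (ShortComplex.exact_iff_mono _ ?_).2 ?_
    · exact (isZero_double_X (𝟙 a) (relUp' i) _ (by lia) (by lia)).eq_of_src _ _
    · dsimp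
      rw [double_d _ _ (by simp)]
      infer_instance
  · by_cases h₁ : i = m + 1
    · subst h₁
      rw [exactAt_iff' _ m (m + 1) (m + 1 + 1) (by simp) (by simp)]
      refine (ShortComplex.exact_iff_epi _ ?_).2 ?_
      · exact (isZero_double_X (𝟙 a) (relUp' m) _ (by lia) (by lia)).eq_of_tgt _ _
      · dsimp
        rw [double_d _ _ (by simp)]
        infer_instance
    · exact ExactAt.of_isZero (isZero_double_X _ (relUp' m) _ h₀ h₁)

lemma injective_of_ext {L : CochainComplex A ℤ} (hL : Ext L) (n : ℤ) : Injective (L.X n) where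
  factors {a b} g f _ := by
    let φ : disk' a n ⟶ disk' b n :=
      fromDisk' (f ≫ (doubleXIso₀ (𝟙 b) (relUp' n)).inv)
    have hn : n ≠ n + 1 := by simp
    have : Mono φ := by
      have : ∀ k, Mono (φ.f k) := fun k => by
        by_cases h₀ : k = n
        · subst h₀
          simp only [φ, fromDisk', mkHomFromDouble_f₀]
          infer_instance
        · by_cases h₁ : k = n + 1
          · subst h₁
            simp only [φ, fromDisk', mkHomFromDouble_f₁, double_d _ _ hn]
            infer_instance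
          · exact ⟨fun x y _ => (isZero_double_X _ (relUp' n) _ h₀ h₁).eq_of_tgt x y⟩
      exact HomologicalComplex.mono_of_mono_f φ this
    have hφ : W φ := ⟨this, ⟨fun i => (quasiIsoAt_iff_exactAt _ _ (acyclic_disk a n i)).2
      (acyclic_disk b n i)⟩⟩
    obtain ⟨k, hk⟩ := hL φ hφ (fromDisk' g)
    refine ⟨(doubleXIso₀ (𝟙 b) (relUp' n)).inv ≫ k.f n, ?_⟩
    have := congrArg (fun x => x.f n) hk
    simp only [φ, fromDisk', HomologicalComplex.comp_f, mkHomFromDouble_f₀,
      Category.assoc, cancel_epi] at this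
    exact this

open CochainComplex in
lemma isKInjective_of_ext {L : CochainComplex A ℤ} (hL : Ext L) : L.IsKInjective where
  nonempty_homotopy_zero {K} f hK := by
    let i := mappingCone.inr (𝟙 K)
    have : ∀ k, Mono (i.f k) := fun k =>
      mono_of_mono_fac (mappingCone.inr_f_snd_v (𝟙 K) k)
    have : Mono i := HomologicalComplex.mono_of_mono_f i this
    have hC : (mappingCone (𝟙 K)).Acyclic := fun k => by
      rw [exactAt_iff_isZero_homology, IsZero.iff_id_eq_zero, ← homologyMap_id,
        (mappingCone.homotopyToZeroOfId K).homologyMap_eq, homologyMap_zero]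
    have hi : W i := ⟨this, ⟨fun k => (quasiIsoAt_iff_exactAt _ _ (hK k)).2 (hC k)⟩⟩
    obtain ⟨g, hg⟩ := hL i hi f
    have h0 : f = (𝟙 K ≫ i) ≫ g := by rw [Category.id_comp, hg]
    exact ⟨(Homotopy.ofEq h0).trans
      (((HomologicalComplex.homotopyCofiber.inrCompHomotopy (𝟙 K)
        (fun j => ⟨j - 1, by simp⟩)).compRight g).trans (Homotopy.ofEq zero_comp))⟩

open CochainComplex HomComplex in
lemma ext_of_isKInjective {I : CochainComplex A ℤ} [I.IsKInjective] (hI : ∀ n, Injective (I.X n))
    {S : ShortComplex (CochainComplex A ℤ)} (hS : S.ShortExact) (hC : S.X₃.Acyclic)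
    (φ : S.X₁ ⟶ I) : ∃ ψ : S.X₂ ⟶ I, S.f ≫ ψ = φ := by
  have := hS.mono_f
  have := hS.epi_g
  have hSn : ∀ n, (S.map (eval A _ n)).ShortExact := fun n => hS.map_of_exact _
  have : ∀ n, Epi (S.map (eval A _ n)).g := fun n => (hSn n).epi_g
  have : ∀ n, Mono (S.f.f n) := fun n => (hSn n).mono_f
  have : ∀ n, Epi (S.g.f n) := fun n => (hSn n).epi_g
  let ψ₀ := Cochain.ofHoms fun n => Injective.factorThru (φ.f n) (S.f.f n)
  have h₀ : (Cochain.ofHom S.f).comp ψ₀ (zero_add 0) = Cochain.ofHom φ := by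
    ext p
    simp [ψ₀, Cochain.zero_cochain_comp_v]
  have h₁ : (Cochain.ofHom S.f).comp (δ 0 1 ψ₀) (zero_add 1) = 0 := by
    rw [← δ_ofHom_comp, h₀, δ_ofHom]
  let c : Cochain S.X₃ I 1 := Cochain.mk fun p q hpq =>
    (hSn p).exact.gIsCokernel.desc (CokernelCofork.ofπ ((δ 0 1 ψ₀).v p q hpq)
      (by simpa using Cochain.congr_v h₁ p q hpq))
  have hc : (Cochain.ofHom S.g).comp c (zero_add 1) = δ 0 1 ψ₀ := by
    ext p q hpq
    simp only [Cochain.zero_cochain_comp_v, Cochain.ofHom_v, c, Cochain.mk_v]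
    exact Cofork.IsColimit.π_desc (hSn p).exact.gIsCokernel
  have hc' : δ 1 2 c = 0 := by
    ext p q hpq
    have h := congr_arg (δ 1 2) hc
    rw [δ_ofHom_comp, δ_δ] at h
    rw [← cancel_epi (S.g.f p)]
    simpa using Cochain.congr_v h p q hpq
  obtain ⟨α, hα⟩ := IsKInjective.eq_δ_of_cocycle (Cocycle.mk c 2 rfl hc') hC 0 rfl
  let z : Cocycle S.X₂ I 0 := Cocycle.mk (ψ₀ - (Cochain.ofHom S.g).comp α (zero_add 0)) 1 rfl (by
    rw [δ_sub, δ_ofHom_comp, hα]
    exact sub_eq_zero.2 hc.symm)
  refine ⟨Cocycle.homOf z, ?_⟩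
  ext p
  have h : S.f.f p ≫ S.g.f p = 0 := by rw [← comp_f, S.zero, zero_f]
  simp [z, ψ₀, Cochain.zero_cochain_comp_v, reassoc_of% h]

end Groth.DerivedCoh.KInjRes
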