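import Groth.Agent.DerivedCoh.KInj.Small
import Groth.Agent.DerivedCoh.KInj.Lifting
import Mathlib.CategoryTheory.Abelian.GrothendieckCategory.ColimCoyoneda
import Mathlib.CategoryTheory.Abelian.GrothendieckCategory.EnoughInjectives
import Mathlib.CategoryTheory.SmallObject.Basic
import Mathlib.CategoryTheory.Subobject.HasCardinalLT
import Mathlib.Algebra.Homology.HomotopyCategory.KInjective
import Mathlib.Algebra.Homology.HomotopyCategory.Pretriangulated
import Mathlib.Order.TransfiniteIteration

/-!
K-injective resolutions with injective terms in a Grothendieck abelian category.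
-/

universe v u

set_option backward.defeqAttrib.useBackward true
set_option backward.isDefEq.respectTransparency false
set_option backward.isDefEq.respectTransparency.types false

namespace Groth.DerivedCoh.KInjRes

open CategoryTheory CategoryTheory.Limits HomologicalComplex KInjSmall

variable {A : Type u} [Category.{v} A] [Abelian A] [IsGrothendieckAbelian.{v} A]

local notation "W" => acyclicMono A (ComplexShape.up ℤ)

variable (A) in
/-- the fixed test complex -/
noncomputable abbrev B₀ : CochainComplex A ℤ := Bx (separator A) (Tω (separator A))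

variable (A) in
/-- the generating trivial cofibrations -/
def genCof : MorphismProperty (CochainComplex A ℤ) :=
  MorphismProperty.ofHoms (fun S : {S : Subobject (B₀ A) // W S.arrow} => S.1.arrow)

instance : MorphismProperty.IsSmall.{v} (genCof A) := by
  unfold genCof
  infer_instance

lemma gen_le : genCof A ≤ W := by
  rintro _ _ _ ⟨S⟩
  exact S.2

lemma gen_le_mono : genCof A ≤ MorphismProperty.monomorphisms _ := fun _ _ f hf => (gen_le f hf).1

lemma pushouts_gen_le : (genCof A).pushouts ≤ W :=
  MorphismProperty.pushouts_le_iff.2 gen_le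

lemma isomorphisms_le_pushouts_gen :
    MorphismProperty.isomorphisms _ ≤ (genCof A).pushouts :=
  MorphismProperty.isomorphisms_le_pushouts _
    (fun _ ↦ ⟨_, _, _, (MorphismProperty.ofHoms.mk (⟨⊤, MorphismProperty.of_isIso _ _⟩ : {S : Subobject (B₀ A) // W S.arrow}) : genCof A _), 0, inferInstance⟩)

lemma exists_pushouts {X Y : CochainComplex A ℤ} (p : X ⟶ Y) (hp : W p) (hp' : ¬ IsIso p) :
    ∃ (X' : CochainComplex A ℤ) (i : X ⟶ X') (p' : X' ⟶ Y) (_ : (genCof A).pushouts i)
      (_ : ¬ IsIso i) (_ : W p'), i ≫ p' = p := by
  obtain ⟨f, hf, hf'⟩ := exists_map (isSeparator_separator A) p hp hp'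
  have := hp.1
  have : Mono p := hp.1
  have : Mono (pullback.snd p f) := hf.1
  have hS : W (Subobject.mk (pullback.snd p f)).arrow := by
    rw [← Subobject.underlyingIso_hom_comp_eq_mk]
    exact ((W).cancel_left_of_respectsIso _ _).2 hf
  have hpo : (genCof A).pushouts (pushout.inl (pullback.fst p f) (pullback.snd p f)) :=
    ⟨_, _, _, (Subobject.underlyingIso _).hom ≫ pullback.fst _ _,
    pushout.inr _ _, (MorphismProperty.ofHoms.mk (⟨Subobject.mk (pullback.snd p f), hS⟩ : {S : Subobject (B₀ A) // W S.arrow}) : genCof A _),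
    (IsPushout.of_hasPushout (pullback.fst p f) (pullback.snd p f)).of_iso
      ((Subobject.underlyingIso _).symm) (Iso.refl _) (Iso.refl _)
      (Iso.refl _) (by simp) (by simp) (by simp) (by simp)⟩
  have : Mono (pushout.desc p f pullback.condition) :=
    (IsPushout.of_hasPushout _ _).mono_of_isPullback_of_mono
      (IsPullback.of_hasPullback p f) _ (by simp) (by simp)
  refine ⟨_, pushout.inl _ _, pushout.desc p f pullback.condition, hpo, ?_, ?_, by simp⟩
  · intro h
    exact hf' ⟨pushout.inr _ _ ≫ inv (pushout.inl (pullback.fst p f) (pullback.snd p f)), by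
      rw [Category.assoc]
      conv_rhs => rw [← pushout.inr_desc p f pullback.condition]
      congr 1
      rw [IsIso.inv_comp_eq, pushout.inl_desc]⟩
  · exact acyclicMono_of_comp _ _ (pushouts_gen_le _ hpo) (by simpa using hp)

lemma exists_larger_subobject {X : CochainComplex A ℤ} (S : Subobject X) (hS : S ≠ ⊤)
    (hW : W S.arrow) :
    ∃ (S' : Subobject X) (h : S < S'),
      (genCof A).pushouts (Subobject.ofLE S S' h.le) ∧ W S'.arrow := by
  induction S using Subobject.ind with | _ f
  have hf : W f := by
    rw [← Subobject.underlyingIso_hom_comp_eq_mk] at hW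
    exact ((W).cancel_left_of_respectsIso _ _).1 hW
  obtain ⟨X', i, p', hi, hi', hp', fac⟩ := exists_pushouts f hf
    (by simpa only [Subobject.isIso_iff_mk_eq_top] using hS)
  have : Mono p' := hp'.1
  refine ⟨Subobject.mk p', Subobject.mk_lt_mk_of_comm i fac hi',
    (MorphismProperty.arrow_mk_iso_iff _ ?_).2 hi, ?_⟩
  · refine Arrow.isoMk (Subobject.underlyingIso f) (Subobject.underlyingIso p') ?_
    simp only [Arrow.mk_hom, ← cancel_mono p', Category.assoc, fac,
      Subobject.underlyingIso_hom_comp_eq_mk, Subobject.ofLE_arrow]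
  · rw [← Subobject.underlyingIso_hom_comp_eq_mk]
    exact ((W).cancel_left_of_respectsIso _ _).2 hp'

variable {X : CochainComplex A ℤ}

open scoped Classical in
/-- a larger subobject -/
noncomputable def larger (S : Subobject X) : Subobject X :=
  if h : S ≠ ⊤ ∧ W S.arrow then (exists_larger_subobject S h.1 h.2).choose else ⊤

lemma larger_top : larger (⊤ : Subobject X) = ⊤ := dif_neg (by simp)

lemma lt_larger (S : Subobject X) (hS : S ≠ ⊤) : S < larger S := by
  unfold larger
  split_ifs with h
  · exact (exists_larger_subobject S h.1 h.2).choose_spec.choose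
  · exact hS.lt_top

lemma le_larger (S : Subobject X) : S ≤ larger S := by
  by_cases hS : S = ⊤
  · subst hS; rw [larger_top]
  · exact (lt_larger S hS).le

lemma W_larger (S : Subobject X) : W (larger S).arrow := by
  by_cases h : S ≠ ⊤ ∧ W S.arrow
  · rw [show larger S = (exists_larger_subobject S h.1 h.2).choose from dif_pos h]
    exact (exists_larger_subobject S h.1 h.2).choose_spec.choose_spec.2
  · rw [show larger S = ⊤ from dif_neg h]
    exact MorphismProperty.of_isIso _ _

lemma pushouts_ofLE_larger (S : Subobject X) (hW : W S.arrow) :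
    (genCof A).pushouts (Subobject.ofLE _ _ (le_larger S)) := by
  by_cases hS : S = ⊤
  · subst hS
    have := (Subobject.isIso_arrow_iff_eq_top (larger (⊤ : Subobject X))).2 larger_top
    exact (MorphismProperty.arrow_mk_iso_iff _
      (Arrow.isoMk (asIso (Subobject.arrow _)) (asIso (Subobject.arrow _)) (by simp))).2
        (isomorphisms_le_pushouts_gen (𝟙 X) (MorphismProperty.isomorphisms.infer_property _))
  · refine (MorphismProperty.arrow_mk_iso_iff _ ?_).1
      (exists_larger_subobject S hS hW).choose_spec.choose_spec.1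
    exact Arrow.isoMk (Iso.refl _)
      (Subobject.isoOfEq _ _ (by simp [larger, dif_pos (And.intro hS hW)])) (by simp)

section

variable (S₀ : Subobject X) (J : Type v) [LinearOrder J] [OrderBot J] [SuccOrder J]
  [WellFoundedLT J]

/-- the functor of iterates -/
@[simps]
noncomputable def functorToMonoOver : J ⥤ MonoOver X where
  obj j := MonoOver.mk (transfiniteIterate larger j S₀).arrow
  map {j j'} f := MonoOver.homMk (Subobject.ofLE _ _
      (monotone_transfiniteIterate _ _ le_larger (leOfHom f)))

/-- the underlying functor -/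
noncomputable abbrev functor : J ⥤ CochainComplex A ℤ :=
  functorToMonoOver S₀ J ⋙ MonoOver.forget _ ⋙ Over.forget _

/-- the colimit cocone at a limit stage -/
noncomputable def isColimitLimitStage (m : J) (hm : Order.IsSuccLimit m) :
    IsColimit ((Set.principalSegIio m).cocone (functor S₀ J)) := by
  have := hm.nonempty_Iio.to_subtype
  let c := (Set.principalSegIio m).cocone (functorToMonoOver S₀ J ⋙ MonoOver.forget _)
  have : Mono c.pt.hom := by dsimp [c]; infer_instance
  apply IsGrothendieckAbelian.isColimitMapCoconeOfSubobjectMkEqISup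
    ((Set.principalSegIio m).monotone.functor ⋙ functorToMonoOver S₀ J) c
  dsimp [c]
  simp only [Subobject.mk_arrow]
  exact transfiniteIterate_limit larger S₀ m hm

instance : (functor S₀ J).IsWellOrderContinuous where
  nonempty_isColimit m hm := ⟨isColimitLimitStage S₀ J m hm⟩

variable {J} in
lemma W_iterate (hS₀ : W S₀.arrow) (j : J) : W (transfiniteIterate larger j S₀).arrow := by
  induction j using SuccOrder.limitRecOn with
  | isMin j hj =>
    obtain rfl := hj.eq_bot
    rw [transfiniteIterate_bot]
    exact hS₀
  | succ j hj _ =>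
    rw [transfiniteIterate_succ _ _ _ hj]
    exact W_larger _
  | isSuccLimit j hj ih =>
    have := hj.nonempty_Iio.to_subtype
    have : IsFiltered (Set.Iio j) := isFiltered_of_directed_le_nonempty _
    have hf : ∀ k : Set.Iio j, W ((transfiniteIterate larger k.1 S₀).arrow) :=
      fun k => ih k.1 k.2
    let F := (Set.principalSegIio j).monotone.functor ⋙ functor S₀ J
    refine MorphismProperty.colimitsOfShape_le (J := Set.Iio j) _
      (MorphismProperty.colimitsOfShape.mk' F ((Functor.const _).obj X)
        ((Set.principalSegIio j).cocone (functor S₀ J)) (constCocone _ X)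
        (isColimitLimitStage S₀ J j hj) (isColimitConstCocone _ X)
        { app := fun k => (transfiniteIterate larger k.1 S₀).arrow
          naturality := fun k k' h => by simp [F, MonoOver.forget] }
        hf _ (fun k => ?_))
    simp [MonoOver.forget]

variable {J} in
/-- the transfinite composition from bottom -/
noncomputable def tcFromBot (hS₀ : W S₀.arrow) (j : J) :
    (genCof A).pushouts.TransfiniteCompositionOfShape (Set.Iic j)
    ((functor S₀ J).map (homOfLE bot_le : ⊥ ⟶ j)) where
  F := (Set.initialSegIic j).monotone.functor ⋙ functor S₀ J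
  isoBot := Iso.refl _
  incl :=
    { app k := (functor S₀ J).map (homOfLE k.2)
      naturality k k' h := by simp [MonoOver.forget] }
  isColimit := colimitOfDiagramTerminal isTerminalTop _
  map_mem k hk := by
    dsimp [MonoOver.forget]
    convert!
      pushouts_ofLE_larger (transfiniteIterate larger k.1 S₀) (W_iterate S₀ hS₀ k.1) using 2
    all_goals
      rw [Set.Iic.succ_eq_of_not_isMax hk,
        transfiniteIterate_succ _ _ _ (Set.not_isMax_coe _ hk)]

end

lemma mem_llp_rlp {K L : CochainComplex A ℤ} (f : K ⟶ L) (hf : W f) : (genCof A).rlp.llp f := by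
  have : Mono f := hf.1
  have hS₀ : W (Subobject.mk f).arrow := by
    rw [← Subobject.underlyingIso_hom_comp_eq_mk]
    exact ((W).cancel_left_of_respectsIso _ _).2 hf
  let κ := Order.succ (Cardinal.mk (Shrink.{v} (Subobject L)))
  have : Nonempty κ.ord.ToType := by simp [κ]
  have := WellFoundedLT.toOrderBot κ.ord.ToType
  obtain ⟨j, hj⟩ : ∃ j : κ.ord.ToType, transfiniteIterate larger j (Subobject.mk f) = ⊤ :=
    top_mem_range_transfiniteIterate larger (Subobject.mk f) lt_larger larger_top
      (fun h ↦ by
        have hc : HasCardinalLT (Subobject L) (Cardinal.mk κ.ord.ToType) :=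
          lt_of_lt_of_le (Order.lt_succ _) (by simp [κ])
        simpa [hasCardinalLT_iff_cardinal_mk_lt] using hc.of_injective _ h)
  let t := transfiniteIterate larger j (Subobject.mk f)
  have := (Subobject.isIso_arrow_iff_eq_top t).2 hj
  let h : (genCof A).pushouts.TransfiniteCompositionOfShape (Set.Iic j) f := by
    apply (tcFromBot (Subobject.mk f) hS₀ j).ofArrowIso
    refine Arrow.isoMk ((Subobject.isoOfEq _ _ (transfiniteIterate_bot _ _) ≪≫
      Subobject.underlyingIso f)) (asIso t.arrow) ?_
    dsimp [MonoOver.forget, t]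
    rw [Category.assoc, Subobject.underlyingIso_hom_comp_eq_mk, Subobject.ofLE_arrow,
      Subobject.ofLE_arrow]
  exact fun _ _ p hp => MorphismProperty.transfiniteCompositionsOfShape_le_llp_rlp _ _ _ h.mem _
    (by simpa using hp)

lemma rlp_eq : (genCof A).rlp = (W).rlp :=
  le_antisymm (fun _ _ p hp _ _ i hi => mem_llp_rlp i hi _ hp)
    (MorphismProperty.antitone_rlp gen_le)

open MorphismProperty in
instance : HasSmallObjectArgument.{v} (genCof A) := by
  obtain ⟨κ, hκ', hκ⟩ := HasCardinalLT.exists_regular_cardinal.{v} (Subobject (B₀ A))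
  have : Fact κ.IsRegular := ⟨hκ'⟩
  have : Nonempty κ.ord.ToType := by simpa using hκ'.ne_zero
  have := WellFoundedLT.toOrderBot κ.ord.ToType
  exact ⟨κ, inferInstance, inferInstance,
    { preservesColimit {K L M N} i hi f hf := by
        let hf' : (monomorphisms (CochainComplex A ℤ)).TransfiniteCompositionOfShape κ.ord.ToType f :=
          { toTransfiniteCompositionOfShape := hf.toTransfiniteCompositionOfShape
            map_mem j hj := by
              have := (hf.attachCells j hj).pushouts_coproducts
              simp only [ofHoms_homFamily] at this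
              refine (?_ : _ ≤ monomorphisms (CochainComplex A ℤ)) _ this
              simp only [pushouts_le_iff, coproducts_le_iff]
              exact gen_le_mono }
        have (j j' : κ.ord.ToType) (φ : j ⟶ j') : Mono (hf'.F.map φ) := hf'.mem_map φ
        apply IsGrothendieckAbelian.preservesColimit_coyoneda_obj_of_mono (Y := hf'.F) (κ := κ)
        obtain ⟨S⟩ := hi
        exact Subobject.hasCardinalLT_of_mono hκ S.1.arrow }⟩

open MorphismProperty in
lemma llp_rlp_le : (genCof A).rlp.llp ≤ W := by
  rw [llp_rlp_of_hasSmallObjectArgument]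
  refine (retracts_monotone (transfiniteCompositions_monotone.{v} (pushouts_monotone
    (coproducts_monotone gen_le)))).trans ?_
  simp

open MorphismProperty ZeroObject in
lemma exists_ext (K : CochainComplex A ℤ) :
    ∃ (L : CochainComplex A ℤ) (i : K ⟶ L), W i ∧ Ext L := by
  let d := factorizationData (genCof A).rlp.llp (genCof A).rlp (0 : K ⟶ 0)
  refine ⟨d.Z, d.i, llp_rlp_le _ d.hi, fun K' M i hi f => ?_⟩
  have hp : (W).rlp d.p := rlp_eq (A := A) ▸ d.hp
  have sq : CommSq f i d.p 0 := ⟨(isZero_zero _).eq_of_tgt _ _⟩
  have := hp i hi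
  exact ⟨sq.lift, sq.fac_left⟩

/-- every complex admits a trivial cofibration into a K-injective complex with injective terms -/
theorem exists_resolution (K : CochainComplex A ℤ) :
    ∃ (L : CochainComplex A ℤ) (i : K ⟶ L), Mono i ∧ QuasiIso i ∧ L.IsKInjective ∧
      ∀ n, Injective (L.X n) := by
  obtain ⟨L, i, hi, hL⟩ := exists_ext K
  exact ⟨L, i, hi.1, hi.2, isKInjective_of_ext hL, injective_of_ext hL⟩

open MorphismProperty ZeroObject in
/-- functorial K-injective resolutions -/
theorem exists_functorial :
    ∃ (N : CochainComplex A ℤ ⥤ CochainComplex A ℤ) (j : 𝟭 _ ⟶ N),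
      ∀ M, Mono (j.app M) ∧ QuasiIso (j.app M) ∧ (N.obj M).IsKInjective ∧
        ∀ n, Injective ((N.obj M).X n) := by
  let d := functorialFactorizationData (genCof A).rlp.llp (genCof A).rlp
  let T : CochainComplex A ℤ ⥤ Arrow (CochainComplex A ℤ) :=
    { obj K := Arrow.mk (0 : K ⟶ 0)
      map f := Arrow.homMk f (𝟙 _) (by simp) }
  refine ⟨T ⋙ d.Z,
    { app M := d.i.app (T.obj M)
      naturality M M' f := d.i.naturality (T.map f) }, fun M => ?_⟩
  have hi := llp_rlp_le _ (d.hi (T.obj M))
  have hE : Ext (d.Z.obj (T.obj M)) := fun K' M' i hi f => by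
    have hp : (W).rlp (d.p.app (T.obj M)) := rlp_eq (A := A) ▸ d.hp (T.obj M)
    have sq : CommSq f i (d.p.app (T.obj M)) 0 := ⟨(isZero_zero _).eq_of_tgt _ _⟩
    have := hp i hi
    exact ⟨sq.lift, sq.fac_left⟩
  exact ⟨hi.1, hi.2, isKInjective_of_ext hE, injective_of_ext hE⟩

end Groth.DerivedCoh.KInjRes
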