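import Groth.Agent.DerivedCoh.KInj.AcyclicMono
import Mathlib.Algebra.Homology.Double
import Mathlib.Algebra.Homology.HomologicalComplexLimits
import Mathlib.CategoryTheory.Abelian.Refinements
import Mathlib.CategoryTheory.Abelian.GrothendieckAxioms.Colim
import Mathlib.CategoryTheory.Functor.OfSequence
import Mathlib.CategoryTheory.Generator.Basic

/-!
The key smallness lemma for trivial cofibrations of complexes in a Grothendieck abelian category:
there is a fixed complex `B₀` such that every acyclic monomorphism `p : X ⟶ Y` which is not an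
isomorphism admits `f : B₀ ⟶ Y` not factoring through `p`, whose pullback along `p` is an
acyclic monomorphism.
-/

universe v u

namespace Groth.DerivedCoh.KInjSmall

open CategoryTheory CategoryTheory.Limits HomologicalComplex Opposite

variable {A : Type u} [Category.{v} A] [Abelian A] [IsGrothendieckAbelian.{v} A] (G : A)

lemma relUp (m : ℤ) : (ComplexShape.up ℤ).Rel m (m + 1) := by simp

/-- the disk complex -/
noncomputable abbrev disk (m : ℤ) : CochainComplex A ℤ :=
  HomologicalComplex.double (𝟙 G) (relUp m)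

/-- the coproduct of disks indexed by `T × ℤ` -/
noncomputable def Bx (T : Type v) : CochainComplex A ℤ := ∐ fun p : T × ℤ => disk G p.2

variable {G}

/-- maps out of a disk -/
noncomputable def fromDisk {Y : CochainComplex A ℤ} {m : ℤ} (g : G ⟶ Y.X m) : disk G m ⟶ Y :=
  mkHomFromDouble (relUp m) (by simp) g (g ≫ Y.d m (m + 1)) (by simp) (by simp)

/-- the tautological element of `Bx G T` in degree `m` -/
noncomputable def gen (T : Type v) (m : ℤ) (t : T) : G ⟶ (Bx G T).X m :=
  (doubleXIso₀ (𝟙 G) (relUp m)).inv ≫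
    (Sigma.ι (fun p : T × ℤ => disk G p.2) (t, m)).f m

/-- the map out of `Bx` given by a family -/
noncomputable def descB {T : Type v} {Y : CochainComplex A ℤ} (y : ∀ m, T → (G ⟶ Y.X m)) :
    Bx G T ⟶ Y :=
  Sigma.desc fun p => fromDisk (y p.2 p.1)

@[reassoc (attr := simp)]
lemma gen_descB {T : Type v} {Y : CochainComplex A ℤ} (y : ∀ m, T → (G ⟶ Y.X m)) (m : ℤ) (t : T) :
    gen T m t ≫ (descB y).f m = y m t := by
  simp only [gen, descB, Bx]
  rw [Category.assoc, ← HomologicalComplex.comp_f, Sigma.ι_desc]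
  simp [fromDisk]

lemma hom_ext_B {T : Type v} {Y : CochainComplex A ℤ} {a b : Bx G T ⟶ Y}
    (h : ∀ m t, gen T m t ≫ a.f m = gen T m t ≫ b.f m) : a = b := by
  refine Sigma.hom_ext _ _ fun p => ?_
  obtain ⟨t, m⟩ := p
  have h0 := h m t
  simp only [gen, Bx] at h0
  rw [Category.assoc, Category.assoc, cancel_epi] at h0
  refine from_double_hom_ext h0 ?_
  change (Sigma.ι (fun p : T × ℤ => disk G p.2) (t, m) ≫ a).f (m + 1) =
    (Sigma.ι (fun p : T × ℤ => disk G p.2) (t, m) ≫ b).f (m + 1)
  have e : Epi ((disk G m).d m (m + 1)) := by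
    rw [disk, double_d _ _ (by simp)]
    infer_instance
  rw [← cancel_epi ((disk G m).d m (m + 1))]
  exact ((Sigma.ι _ (t, m) ≫ a).comm m (m + 1)).symm.trans
    ((congrArg (· ≫ Y.d m (m + 1)) h0).trans ((Sigma.ι _ (t, m) ≫ b).comm m (m + 1)))

variable {X Y : CochainComplex A ℤ} (π : Y ⟶ X)

/-- the subcomplex of `X` generated by a family in `Y` -/
noncomputable def Qx {T : Type v} (y : ∀ m, T → (G ⟶ Y.X m)) : CochainComplex A ℤ :=
  image (descB y ≫ π)

/-- the projection onto `Qx` -/
noncomputable def toQ {T : Type v} (y : ∀ m, T → (G ⟶ Y.X m)) : Bx G T ⟶ Qx π y :=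
  factorThruImage (descB y ≫ π)

/-- the inclusion of `Qx` -/
noncomputable def ιQ {T : Type v} (y : ∀ m, T → (G ⟶ Y.X m)) : Qx π y ⟶ X :=
  image.ι (descB y ≫ π)

instance {T : Type v} (y : ∀ m, T → (G ⟶ Y.X m)) : Epi (toQ π y) := by unfold toQ Qx; infer_instance

instance {T : Type v} (y : ∀ m, T → (G ⟶ Y.X m)) : Mono (ιQ π y) := by unfold ιQ Qx; infer_instance

@[reassoc (attr := simp)]
lemma toQ_ι {T : Type v} (y : ∀ m, T → (G ⟶ Y.X m)) : toQ π y ≫ ιQ π y = descB y ≫ π :=
  image.fac _

/-- reindexing of `Bx` -/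
noncomputable def mapB {T T' : Type v} (φ : T → T') : Bx G T ⟶ Bx G T' :=
  descB fun m t => gen T' m (φ t)

/-- the map between generated subcomplexes -/
noncomputable def mapQ {T T' : Type v} (φ : T → T') (y : ∀ m, T → (G ⟶ Y.X m))
    (y' : ∀ m, T' → (G ⟶ Y.X m)) (h : ∀ m t, y' m (φ t) = y m t) : Qx π y ⟶ Qx π y' :=
  image.lift
    { I := Qx π y', m := ιQ π y', e := mapB φ ≫ toQ π y'
      fac := by
        rw [Category.assoc, toQ_ι, ← Category.assoc]
        congr 1
        exact hom_ext_B fun m t => by simp [mapB, h] }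

@[reassoc (attr := simp)]
lemma mapQ_ι {T T' : Type v} (φ : T → T') (y : ∀ m, T → (G ⟶ Y.X m))
    (y' : ∀ m, T' → (G ⟶ Y.X m)) (h : ∀ m t, y' m (φ t) = y m t) :
    mapQ π φ y y' h ≫ ιQ π y' = ιQ π y :=
  image.lift_fac _

variable (G) in
/-- the bound on the new generators -/
abbrev U (T : Type v) : Type v :=
  Σ n : ℤ, Σ S : Shrink.{v} (Subobject ((Bx G T).X n)),
    (G ⟶ cokernel ((equivShrink _).symm S).arrow)

variable (G) in
/-- index type of the next stage -/
abbrev nextT (T : Type v) : Type v := T ⊕ (U G T × Shrink.{v} (Subobject G))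

open Classical in
/-- the element of `X` attached to an element of `U` -/
noncomputable def elt {T : Type v} (y : ∀ m, T → (G ⟶ Y.X m)) (u : U G T) : G ⟶ X.X u.1 :=
  if h : ((equivShrink _).symm u.2.1).arrow ≫ (descB y ≫ π).f u.1 = 0 then
    u.2.2 ≫ cokernel.desc _ _ h
  else 0

open Classical in
/-- the family of the next stage -/
noncomputable def nextY {T : Type v} (y : ∀ m, T → (G ⟶ Y.X m)) :
    ∀ m, nextT G T → (G ⟶ Y.X m)
  | m, .inl t => y m t
  | m, .inr (u, V) =>
    if h : ∃ g : G ⟶ Y.X m, m + 1 = u.1 ∧ ∃ p : G ⟶ G, imageSubobject p = (equivShrink _).symm V ∧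
        p ≫ elt π y u = g ≫ π.f m ≫ X.d m u.1 then h.choose else 0

variable (hG : IsSeparator G)

include hG in
lemma exists_elt {T : Type v} (y : ∀ m, T → (G ⟶ Y.X m)) (n : ℤ) (h : G ⟶ (Qx π y).X n) :
    ∃ u : U G T, ∃ e : u.1 = n, elt π y u ≫ eqToHom (by rw [e]) = h ≫ (ιQ π y).f n := by
  let q := (toQ π y).f n
  let ι' := (ιQ π y).f n
  have hq : q ≫ ι' = (descB y ≫ π).f n := by
    simp only [q, ι', ← HomologicalComplex.comp_f, toQ_ι]
  let S := kernelSubobject q
  let S' := (equivShrink (Subobject ((Bx G T).X n))).symm (equivShrink _ S)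
  have hS' : S'.arrow ≫ q = 0 := by
    have : S' = S := Equiv.symm_apply_apply _ _
    rw [this]
    exact kernelSubobject_arrow_comp q
  have : Mono (cokernel.desc S'.arrow q hS') := by
    refine Preadditive.mono_of_cancel_zero _ fun {W} g hg => ?_
    obtain ⟨W', π', _, x, hx⟩ := surjective_up_to_refinements_of_epi (cokernel.π S'.arrow) g
    have hxq : x ≫ q = 0 := by
      rw [← cokernel.π_desc S'.arrow q hS', ← Category.assoc, ← hx, Category.assoc, hg, comp_zero]
    have hS'' : S = S' := (Equiv.symm_apply_apply _ _).symm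
    have hf : S'.Factors x := by
      rw [← hS'']
      exact kernelSubobject_factors q x hxq
    rw [← cancel_epi π', hx, comp_zero, ← Subobject.factorThru_arrow S' x hf, Category.assoc,
      cokernel.condition, comp_zero]
  have : Epi (cokernel.desc S'.arrow q hS') := epi_of_epi_fac (cokernel.π_desc S'.arrow q hS')
  have := isIso_of_mono_of_epi (cokernel.desc S'.arrow q hS')
  refine ⟨⟨n, equivShrink _ S, h ≫ inv (cokernel.desc S'.arrow q hS')⟩, rfl, ?_⟩
  have h0 : S'.arrow ≫ (descB y ≫ π).f n = 0 := by rw [← hq, ← Category.assoc, hS', zero_comp]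
  unfold elt
  erw [dif_pos h0]
  have : cokernel.desc S'.arrow ((descB y ≫ π).f n) h0 = cokernel.desc S'.arrow q hS' ≫ ι' := by
    ext; simp [hq]
  refine (Category.comp_id _).trans ((Category.assoc _ _ _).trans (congrArg (h ≫ ·) ?_))
  exact (IsIso.inv_comp_eq _).2 this

include hG in
lemma homologyMap_next_eq_zero [Epi π] (hX : X.Acyclic) {T : Type v}
    (y : ∀ m, T → (G ⟶ Y.X m)) (n : ℤ) :
    homologyMap (mapQ π (Sum.inl : T → nextT G T) y (nextY π y) (fun _ _ => rfl)) n = 0 := by
  let φ := mapQ π (Sum.inl : T → nextT G T) y (nextY π y) (fun _ _ => rfl)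
  rw [← cancel_epi ((Qx π y).homologyπ n), homologyπ_naturality, comp_zero]
  refine hG.def _ _ fun h => ?_
  rw [comp_zero]
  obtain ⟨u, rfl, hu⟩ := exists_elt π hG y n (h ≫ (Qx π y).iCycles n)
  simp only [eqToHom_refl, Category.comp_id] at hu
  obtain ⟨m, hm⟩ : ∃ m, m + 1 = u.1 := ⟨u.1 - 1, by lia⟩
  have hz : elt π y u ≫ X.d u.1 (u.1 + 1) = 0 := by
    rw [hu, Category.assoc, (ιQ π y).comm, ← Category.assoc, Category.assoc h, iCycles_d,
      comp_zero, zero_comp]
  obtain ⟨A₁, e₁, _, w₀, hw⟩ := ((X.exactAt_iff' m u.1 (u.1 + 1) (by simp; lia) (by simp)).1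
    (hX _)).exact_up_to_refinements (elt π y u) hz
  let w : A₁ ⟶ X.X m := w₀
  obtain ⟨A₂, e₂, _, g, hg⟩ := surjective_up_to_refinements_of_epi (π.f m) w
  rw [← cancel_epi (e₂ ≫ e₁), comp_zero]
  refine hG.def _ _ fun q => ?_
  rw [comp_zero]
  have hex : ∃ g' : G ⟶ Y.X m, m + 1 = u.1 ∧ ∃ p : G ⟶ G,
      imageSubobject p = (equivShrink _).symm (equivShrink _ (imageSubobject (q ≫ e₂ ≫ e₁))) ∧
      p ≫ elt π y u = g' ≫ π.f m ≫ X.d m u.1 := by
    refine ⟨q ≫ g, hm, q ≫ e₂ ≫ e₁, (Equiv.symm_apply_apply _ _).symm, ?_⟩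
    have hw' : e₁ ≫ elt π y u = w ≫ X.d m u.1 := hw
    rw [Category.assoc, Category.assoc, hw', ← Category.assoc e₂, hg]
    simp
  let V := equivShrink.{v} (Subobject G) (imageSubobject (q ≫ e₂ ≫ e₁))
  let g₀ := hex.choose
  obtain ⟨-, p, hp, hpz⟩ := hex.choose_spec
  rw [Equiv.symm_apply_apply] at hp
  let b : G ⟶ (Qx π (nextY π y)).X m :=
    gen (nextT G T) m (.inr (u, V)) ≫ (toQ π (nextY π y)).f m
  have hb : b ≫ (ιQ π (nextY π y)).f m = g₀ ≫ π.f m := by
    simp only [b, Category.assoc, ← HomologicalComplex.comp_f, toQ_ι]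
    rw [HomologicalComplex.comp_f, ← Category.assoc]
    erw [gen_descB]
    congr 1
    exact dif_pos hex
  have hcy : p ≫ h ≫ cyclesMap φ u.1 = b ≫ (Qx π (nextY π y)).toCycles m u.1 := by
    rw [← cancel_mono ((Qx π (nextY π y)).iCycles u.1)]
    simp only [Category.assoc, cyclesMap_i, toCycles_i]
    rw [← cancel_mono ((ιQ π (nextY π y)).f u.1)]
    simp only [Category.assoc, ← (ιQ π (nextY π y)).comm, reassoc_of% hb]
    rw [← HomologicalComplex.comp_f,
      show φ ≫ ιQ π (nextY π y) = ιQ π y from mapQ_ι _ _ _ _ _]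
    rw [← Category.assoc h, ← hu]
    exact hpz
  have key : p ≫ h ≫ cyclesMap φ u.1 ≫ (Qx π (nextY π y)).homologyπ u.1 = 0 := by
    rw [reassoc_of% hcy, toCycles_comp_homologyπ, comp_zero]
  have hV : (imageSubobject p).arrow ≫ h ≫ cyclesMap φ u.1 ≫ (Qx π (nextY π y)).homologyπ u.1 = 0 := by
    rw [← cancel_epi (factorThruImageSubobject p), imageSubobject_arrow_comp_assoc, key, comp_zero]
  rw [hp] at hV
  have := congrArg (fun x => factorThruImageSubobject (q ≫ e₂ ≫ e₁) ≫ x) hV
  simp only [imageSubobject_arrow_comp_assoc, comp_zero] at this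
  simpa using this

lemma hasExactColimitsOfShape_nat : HasExactColimitsOfShape ℕ A := by
  have : IsFiltered (AsSmall.{v} ℕ) := IsFiltered.of_equivalence AsSmall.equiv
  have := AB5OfSize.ofShape (C := A) (AsSmall.{v} ℕ)
  exact HasExactColimitsOfShape.of_domain_equivalence A AsSmall.equiv.symm

attribute [local instance] hasExactColimitsOfShape_nat

section tower

variable (G) in
/-- the index types -/
def Tn : ℕ → Type v
  | 0 => PUnit
  | k + 1 => nextT G (Tn k)

open Classical in
/-- the families -/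
noncomputable def yn : ∀ k, ∀ m, Tn G k → (G ⟶ Y.X m)
  | 0 => fun m _ => if h : ∃ g : G ⟶ Y.X m, g ≫ π.f m ≠ 0 then h.choose else 0
  | k + 1 => nextY π (yn k)

variable (G) in
/-- the final index type -/
abbrev Tω : Type v := Σ k, Tn G k

/-- the final family -/
noncomputable def yω (m : ℤ) (t : Tω G) : G ⟶ Y.X m := yn π t.1 m t.2

/-- the tower of subcomplexes -/
noncomputable def Qtower : ℕ ⥤ CochainComplex A ℤ :=
  Functor.ofSequence (X := fun k => Qx π (yn (G := G) π k))
    (fun k => mapQ π (Sum.inl : Tn G k → nextT G (Tn G k)) (yn π k) (nextY π (yn π k)) (fun _ _ => rfl))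

/-- the inclusions of the tower into `X` -/
noncomputable def towerι : Qtower (G := G) π ⟶ (Functor.const ℕ).obj X :=
  NatTrans.ofSequence (fun k => ιQ π (yn π k)) (fun k => by
    erw [Functor.ofSequence_map_homOfLE_succ]
    exact (mapQ_ι π _ _ _ _).trans (Category.comp_id _).symm)

end tower

include hG in
/-- The key lemma. -/
lemma exists_map {Z : CochainComplex A ℤ} (p : Z ⟶ Y) (hp : acyclicMono A _ p) (hp' : ¬ IsIso p) :
    ∃ f : Bx G (Tω G) ⟶ Y, acyclicMono A _ (pullback.snd p f) ∧ ¬ ∃ a, a ≫ p = f := by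
  have := hp.1
  let π := cokernel.π p
  have hX : (cokernel p).Acyclic := (acyclicMono_iff_cokernel p).1 hp
  let F := Qtower (G := G) π
  have hQ : (colimit F).Acyclic := by
    refine acyclic_colimit_of_homologyMap_eq_zero ℕ F fun k i => ⟨k + 1, homOfLE (Nat.le_succ k), ?_⟩
    dsimp only [F, Qtower]
    erw [Functor.ofSequence_map_homOfLE_succ]
    exact homologyMap_next_eq_zero π hG hX _ i
  let ι' : colimit F ⟶ cokernel p := colimit.desc F (Cocone.mk _ (towerι π))
  have : Mono ι' := by
    have : ∀ k, Mono ((towerι (G := G) π).app k) := fun k =>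
      inferInstanceAs (Mono (ιQ π (yn π k)))
    have : Mono (towerι (G := G) π) := NatTrans.mono_of_mono_app _
    exact colim.map_mono' (towerι (G := G) π) (colimit.isColimit F)
      (isColimitConstCocone ℕ (cokernel p)) ι' (fun j => (colimit.ι_desc _ j).trans (Category.comp_id _).symm)
  let ιc : ∀ k, Qx π (yn (G := G) π k) ⟶ colimit F := fun k => colimit.ι F k
  have hιc : ∀ k, ιc k ≫ ι' = ιQ π (yn π k) := fun k => colimit.ι_desc _ _
  let e : Bx G (Tω G) ⟶ colimit F :=
    descB fun m t => gen (Tn G t.1) m t.2 ≫ (toQ π (yn π t.1) ≫ ιc t.1).f m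
  have he : e ≫ ι' = descB (yω π) ≫ π := by
    refine hom_ext_B fun m t => ?_
    simp only [HomologicalComplex.comp_f, e, gen_descB_assoc, Category.assoc]
    rw [← HomologicalComplex.comp_f, hιc t.1]
    change gen _ m t.2 ≫ (toQ π (yn π t.1)).f m ≫ (ιQ π (yn π t.1)).f m = yω π m t ≫ π.f m
    rw [← HomologicalComplex.comp_f, toQ_ι, HomologicalComplex.comp_f, gen_descB_assoc]
    rfl
  have : Epi e := ⟨fun a b hab => colimit.hom_ext fun k => by
    refine (cancel_epi (toQ π (yn π k))).1 ?_
    refine hom_ext_B fun m t => ?_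
    have := congr_arg (fun x => gen (Tω G) m ⟨k, t⟩ ≫ x.f m) hab
    simp only [e, HomologicalComplex.comp_f] at this
    erw [gen_descB_assoc, gen_descB_assoc] at this
    rw [Category.assoc, Category.assoc] at this
    simp only [HomologicalComplex.comp_f, Category.assoc] at this ⊢
    exact this⟩
  refine ⟨descB (yω π), ?_, ?_⟩
  · have w : pullback.snd p (descB (yω π)) ≫ e = 0 := by
      rw [← cancel_mono ι', Category.assoc, he, zero_comp, ← Category.assoc, ← pullback.condition,
        Category.assoc, cokernel.condition, comp_zero]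
    let S := ShortComplex.mk _ _ w
    have hS : S.ShortExact :=
      { exact := S.exact_of_f_is_kernel (KernelFork.IsLimit.ofι' _ _ fun {W} k hk => by
          have h0 : (k ≫ descB (yω π)) ≫ cokernel.π p = 0 := by
            rw [Category.assoc, ← he, reassoc_of% hk, zero_comp]
          exact ⟨pullback.lift (Abelian.monoLift p (k ≫ descB (yω π)) h0) k (Abelian.monoLift_comp _ _ _),
            pullback.lift_snd _ _ _⟩) }
    exact ⟨hS.mono_f, (quasiIso_f_iff_acyclic S hS).2 hQ⟩
  · rintro ⟨a, ha⟩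
    apply hp'
    have : Epi p := by
      refine Preadditive.epi_of_cokernel_zero ?_
      ext m
      rw [zero_f, ← cancel_epi (𝟙 _)]
      by_contra hne
      obtain ⟨g, hg⟩ : ∃ g : G ⟶ Y.X m, g ≫ π.f m ≠ 0 := by
        by_contra hc
        push_neg at hc
        exact hne (by simpa using hG.def (π.f m) 0 (fun g => by simp [hc g]))
      have hex : ∃ g : G ⟶ Y.X m, g ≫ π.f m ≠ 0 := ⟨g, hg⟩
      have h0 : yω (G := G) π m ⟨0, PUnit.unit⟩ ≫ π.f m = 0 := by
        rw [← gen_descB (yω π) m ⟨0, PUnit.unit⟩, ← ha, Category.assoc, ← HomologicalComplex.comp_f,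
          Category.assoc, cokernel.condition, comp_zero, zero_f, comp_zero]
      simp only [yω, yn, dif_pos hex] at h0
      exact hex.choose_spec h0
    exact isIso_of_mono_of_epi p

end Groth.DerivedCoh.KInjSmall
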