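import Mathlib.Algebra.Homology.GrothendieckAbelian
import Mathlib.Algebra.Homology.QuasiIso
import Mathlib.Algebra.Homology.HomologySequenceLemmas
import Mathlib.CategoryTheory.Abelian.GrothendieckCategory.Monomorphisms
import Mathlib.CategoryTheory.Abelian.CommSq
import Mathlib.CategoryTheory.MorphismProperty.Retract

/-!
Monomorphisms of complexes which are quasi-isomorphisms ("trivial cofibrations").
-/

universe w v u t

namespace Groth.DerivedCoh

open CategoryTheory CategoryTheory.Limits HomologicalComplex

variable {A : Type u} [Category.{v} A] [Abelian A] {ι : Type t} {c : ComplexShape ι}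

lemma quasiIso_f_iff_acyclic (S : ShortComplex (HomologicalComplex A c)) (hS : S.ShortExact) :
    QuasiIso S.f ↔ S.X₃.Acyclic := by
  constructor
  · intro h i
    refine hS.exactAt_X₃ i ?_ ?_
    all_goals intros; infer_instance
  · intro h
    rw [quasiIso_iff]
    intro i
    rw [quasiIsoAt_iff_isIso_homologyMap]
    have hz : ∀ j, IsZero (S.X₃.homology j) := fun j => (h j).isZero_homology
    have : Epi (HomologicalComplex.homologyMap S.f i) :=
      (hS.homology_exact₂ i).epi_f ((hz i).eq_of_tgt _ _)
    have : Mono (HomologicalComplex.homologyMap S.f i) := by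
      by_cases hi : ∃ j, c.Rel j i
      · obtain ⟨j, hj⟩ := hi
        exact (hS.homology_exact₁ j i hj).mono_g ((hz j).eq_of_src _ _)
      · have := hS.mono_f
        exact mono_homologyMap_of_mono_of_not_rel S.f i (by simpa using hi)
    exact isIso_of_mono_of_epi _

variable (A c)

/-- monomorphisms which are quasi-isomorphisms -/
def acyclicMono : MorphismProperty (HomologicalComplex A c) :=
  MorphismProperty.monomorphisms _ ⊓ HomologicalComplex.quasiIso A c

variable {A c}

lemma acyclicMono_iff {K L : HomologicalComplex A c} (f : K ⟶ L) :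
    acyclicMono A c f ↔ Mono f ∧ QuasiIso f := Iff.rfl

lemma acyclicMono_iff_cokernel {K L : HomologicalComplex A c} (f : K ⟶ L) [Mono f] :
    acyclicMono A c f ↔ (cokernel f).Acyclic := by
  rw [acyclicMono_iff]
  have := quasiIso_f_iff_acyclic (ShortComplex.mk f (cokernel.π f) (cokernel.condition f))
    { exact := ShortComplex.exact_of_g_is_cokernel _ (cokernelIsCokernel f) }
  exact ⟨fun h => this.1 h.2, fun h => ⟨inferInstance, this.2 h⟩⟩

instance : (acyclicMono A c).IsMultiplicative where
  id_mem X := (acyclicMono_iff _).2 ⟨inferInstance, inferInstance⟩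
  comp_mem f g hf hg := by
    rw [acyclicMono_iff] at hf hg ⊢
    obtain ⟨_, _⟩ := hf
    obtain ⟨_, _⟩ := hg
    exact ⟨mono_comp f g, inferInstance⟩

instance : (acyclicMono A c).RespectsIso := by
  unfold acyclicMono
  infer_instance

instance : (acyclicMono A c).IsStableUnderRetracts where
  of_retract {X Y Z W f g} h hg :=
    ⟨(MorphismProperty.monomorphisms _).of_retract h hg.1,
      (HomologicalComplex.quasiIso A c).of_retract h hg.2⟩

instance : (acyclicMono A c).IsStableUnderCobaseChange where
  of_isPushout {K L K' L' f g f' g'} sq hf := by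
    have hm : Mono f := hf.1
    have hm' : Mono f' := (MorphismProperty.monomorphisms _).of_isPushout sq hf.1
    rw [acyclicMono_iff_cokernel] at hf ⊢
    let e : cokernel f ≅ cokernel f' :=
      { hom := cokernel.map f f' g g' sq.w.symm
        inv := cokernel.desc f' (sq.desc 0 (cokernel.π f) (by simp)) (sq.inl_desc _ _ _)
        hom_inv_id := coequalizer.hom_ext (by simp)
        inv_hom_id := by
          refine coequalizer.hom_ext (sq.hom_ext ?_ ?_) <;> simp }
    intro i
    exact (hf i).of_iso e

lemma acyclicMono_of_comp {K L M : HomologicalComplex A c} (f : K ⟶ L) (g : L ⟶ M) [Mono g]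
    (hf : acyclicMono A c f) (hfg : acyclicMono A c (f ≫ g)) : acyclicMono A c g :=
  ⟨inferInstanceAs (Mono g), (HomologicalComplex.quasiIso A c).of_precomp f g hf.2 hfg.2⟩

section colim

variable (J : Type w) [Category J] [HasColimitsOfShape J A] [HasExactColimitsOfShape J A]

lemma acyclic_colimit_of_homologyMap_eq_zero (F : J ⥤ HomologicalComplex A c)
    (hF : ∀ j i, ∃ (j' : J) (φ : j ⟶ j'), homologyMap (F.map φ) i = 0) : (colimit F).Acyclic := by
  intro i
  let E := fun k => F ⋙ eval A c k
  let d : ∀ k l, E k ⟶ E l := fun k l =>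
    { app j := (F.obj j).d k l
      naturality _ _ φ := (F.map φ).comm k l }
  let T : ShortComplex (J ⥤ A) := ShortComplex.mk (d (c.prev i) i) (d i (c.next i))
    (by ext j; exact (F.obj j).d_comp_d _ _ _)
  have hH : IsZero (colimit T.homology) := by
    rw [IsZero.iff_id_eq_zero]
    refine colimit.hom_ext fun j => ?_
    obtain ⟨j', φ, hφ⟩ := hF j i
    have h0 : T.homology.map φ = 0 := by
      have h1 := T.homologyMap_mapNatTrans ((evaluation J A).map φ)
      have h2 : ShortComplex.homologyMap (T.mapNatTrans ((evaluation J A).map φ)) = 0 := hφ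
      rw [h2] at h1
      have h3 := (cancel_epi (T.mapHomologyIso ((evaluation J A).obj j)).hom).1 (h1.symm.trans comp_zero.symm)
      exact (cancel_mono (T.mapHomologyIso ((evaluation J A).obj j')).inv).1 (h3.trans zero_comp.symm)
    rw [← colimit.w T.homology φ]
    simp [h0]
  have hT' : (T.map colim).Exact := by
    rw [ShortComplex.exact_iff_isZero_homology]
    exact hH.of_iso (T.mapHomologyIso colim)
  let e : ∀ k, colimit (E k) ≅ (colimit F).X k := fun k => (preservesColimitIso (eval A c k) F).symm
  have he : ∀ k l, (e k).hom ≫ (colimit F).d k l = colimMap (d k l) ≫ (e l).hom := fun k l => by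
    ext j
    have h1 : ∀ m, colimit.ι (E m) j ≫ (e m).hom = (colimit.ι F j).f m := fun m => by
      exact ι_preservesColimitIso_inv (eval A c m) F j
    rw [← Category.assoc, h1, ι_colimMap_assoc, h1]
    exact (colimit.ι F j).comm k l
  rw [exactAt_iff]
  exact ShortComplex.exact_of_iso (ShortComplex.isoMk (e _) (e _) (e _) (he _ _) (he _ _)) hT'

lemma acyclic_colimit (F : J ⥤ HomologicalComplex A c) (hF : ∀ j, (F.obj j).Acyclic) :
    (colimit F).Acyclic :=
  acyclic_colimit_of_homologyMap_eq_zero J F fun j i =>
    ⟨j, 𝟙 j, (hF j i).isZero_homology.eq_of_src _ _⟩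

instance : (acyclicMono A c).IsStableUnderColimitsOfShape J := by
  refine ⟨fun X₁ X₂ c₁ c₂ h₁ h₂ f hf φ hφ => ?_⟩
  have : ∀ j, Mono (f.app j) := fun j => (hf j).1
  have : Mono f := NatTrans.mono_of_mono_app f
  let S := ShortComplex.mk f (cokernel.π f) (cokernel.condition f)
  have hS : S.ShortExact := { exact := ShortComplex.exact_of_g_is_cokernel _ (cokernelIsCokernel f) }
  have hz : ∀ j, ((cokernel f).obj j).Acyclic := fun j =>
    (quasiIso_f_iff_acyclic _ (hS.map_of_exact ((evaluation J _).obj j))).1 (hf j).2
  have hS' := hS.map_of_exact (colim (J := J) (C := HomologicalComplex A c))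
  have h := (quasiIso_f_iff_acyclic _ hS').2 (acyclic_colimit J (cokernel f) hz)
  have h' : acyclicMono A c (colimMap f) := ⟨hS'.mono_f, h⟩
  refine ((acyclicMono A c).arrow_mk_iso_iff
    (Arrow.isoMk ((colimit.isColimit X₁).coconePointUniqueUpToIso h₁)
      ((colimit.isColimit X₂).coconePointUniqueUpToIso h₂) ?_)).1 h'
  refine colimit.hom_ext fun j => ?_
  simp [hφ]

end colim

variable [IsGrothendieckAbelian.{w} A]

instance : MorphismProperty.IsStableUnderFilteredColimits.{w, w} (acyclicMono A c) where
  isStableUnderColimitsOfShape J _ _ := inferInstance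

instance : MorphismProperty.IsStableUnderTransfiniteComposition.{w} (acyclicMono A c) where

instance : MorphismProperty.IsStableUnderCoproducts.{w} (acyclicMono A c) where
  isStableUnderCoproductsOfShape J := inferInstance

end Groth.DerivedCoh
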